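import Mathlib.RingTheory.IntegralClosure.IntegralRestrict
import Mathlib.RingTheory.IntegralClosure.IsIntegralClosure.Basic
import Mathlib.FieldTheory.IsAlgClosed.Basic
import Mathlib.RingTheory.ZariskisMainTheorem
import Mathlib.RingTheory.Flat.FaithfullyFlat.Algebra
import Mathlib.RingTheory.Ideal.GoingDown
import Groth.Agent.IndEt.Retract

/-!
# Integral closures in products of algebraically closed fields

Their local rings are absolutely integrally closed domains, hence every faithfully flat quasi-finite
algebra has sections Zariski locally.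
-/

set_option autoImplicit false
set_option backward.isDefEq.respectTransparency false

universe u

open scoped TensorProduct

namespace Groth.Agent.AbsClosure

/-- In a domain, an element integral over a ring with enough roots comes from that ring. -/
theorem mem_range_of_isIntegral {R D : Type u} [CommRing R] [Nontrivial R] [CommRing D] [IsDomain D] [Algebra R D]
    (hroot : ∀ p : Polynomial R, p.Monic → 0 < p.natDegree → ∃ a, p.IsRoot a) (x : D) (hx : IsIntegral R x) :
    x ∈ Set.range (algebraMap R D) := by
  obtain ⟨p, hp, hpx⟩ := hx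
  induction hd : p.natDegree using Nat.strong_induction_on generalizing p with
  | _ n ih =>
    rcases Nat.eq_zero_or_pos n with rfl | hn
    · rw [hp.natDegree_eq_zero.1 hd] at hpx
      simp at hpx
    obtain ⟨a, ha⟩ := hroot p hp (hd ▸ hn)
    obtain ⟨q, rfl⟩ := Polynomial.dvd_iff_isRoot.2 ha
    rw [Polynomial.eval₂_mul, Polynomial.eval₂_sub, Polynomial.eval₂_X, Polynomial.eval₂_C, mul_eq_zero] at hpx
    have hq : q.Monic := (Polynomial.monic_X_sub_C a).of_mul_monic_left hp
    rcases hpx with h | h
    · exact ⟨a, (sub_eq_zero.1 h).symm⟩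
    · refine ih q.natDegree ?_ q hq h rfl
      rw [← hd, (Polynomial.monic_X_sub_C a).natDegree_mul hq, Polynomial.natDegree_X_sub_C]
      exact Nat.lt_one_add_iff.2 le_rfl

/-- Faithfully flat quasi-finite algebras over an absolutely integrally closed local domain split. -/
theorem exists_algHom_of_roots {R T : Type u} [CommRing R] [IsLocalRing R] [IsDomain R] [CommRing T] [Algebra R T]
    [Module.FaithfullyFlat R T] [Algebra.FiniteType R T] [Algebra.QuasiFinite R T]
    (hroot : ∀ p : Polynomial R, p.Monic → 0 < p.natDegree → ∃ a, p.IsRoot a) : Nonempty (T →ₐ[R] R) := by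
  obtain ⟨q, hq⟩ := PrimeSpectrum.comap_surjective_of_faithfullyFlat (A := R) (B := T) (IsLocalRing.closedPoint R)
  have : q.asIdeal.LiesOver (IsLocalRing.maximalIdeal R) := ⟨(congrArg PrimeSpectrum.asIdeal hq).symm⟩
  have : (⊥ : Ideal R).IsPrime := Ideal.isPrime_bot
  obtain ⟨P, hPq, _, hP⟩ := Ideal.exists_ideal_le_liesOver_of_le (p := (⊥ : Ideal R))
    (q := IsLocalRing.maximalIdeal R) q.asIdeal bot_le
  let D := T ⧸ P
  let q' : Ideal D := q.asIdeal.map (Ideal.Quotient.mk P)
  have : q'.IsPrime := Ideal.map_isPrime_of_surjective Ideal.Quotient.mk_surjective (by rwa [Ideal.mk_ker])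
  have hinj : Function.Injective (algebraMap R D) := by
    rw [injective_iff_map_eq_zero]
    intro r hr
    replace hr : Ideal.Quotient.mk P (algebraMap R T r) = 0 := hr
    rw [Ideal.Quotient.eq_zero_iff_mem] at hr
    have : r ∈ P.under R := hr
    rwa [← hP.over, Ideal.mem_bot] at this
  obtain ⟨S', hS', r, hr, hbij⟩ := Algebra.QuasiFiniteAt.exists_fg_and_exists_notMem_and_awayMap_bijective (R := R) q'
  have hrange : ∀ x : S', x.1 ∈ Set.range (algebraMap R D) := fun x =>
    mem_range_of_isIntegral hroot _ (IsIntegral.of_mem_of_fg S' hS' x.1 x.2)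
  obtain ⟨a, ha⟩ := hrange r
  have hau : IsUnit a := by
    by_contra h
    have h1 : a ∈ q.asIdeal.under R :=
      (Ideal.LiesOver.over (P := q.asIdeal) (p := IsLocalRing.maximalIdeal R)) ▸ h
    exact hr (ha ▸ Ideal.mem_map_of_mem (Ideal.Quotient.mk P) h1)
  have hsurj : Function.Surjective (algebraMap R D) := fun d => by
    obtain ⟨b, m, hb⟩ := Localization.awayMap_surjective_iff.1 hbij.2 d
    obtain ⟨c, hc⟩ := hrange b
    refine ⟨↑(hau.pow m).unit⁻¹ * c, ?_⟩
    have hb' : b.1 = r.1 ^ m * d := hb
    rw [map_mul, hc, hb', ← ha, ← map_pow, ← mul_assoc, ← map_mul, IsUnit.val_inv_mul, map_one, one_mul]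
  let e : R ≃ₐ[R] D := AlgEquiv.ofBijective (Algebra.ofId R D) ⟨hinj, hsurj⟩
  exact ⟨e.symm.toAlgHom.comp (Ideal.Quotient.mkₐ R P)⟩

variable {A : Type u} [CommRing A] {ι : Type u} {K : ι → Type u} [∀ i, Field (K i)] [∀ i, Algebra A (K i)]

noncomputable local instance : CommRing (integralClosure A (∀ i, K i)) := Subalgebra.toCommRing _

/-- The local rings of an integral closure in a product of fields are domains. -/
theorem isDomain_localization (Q : Ideal (integralClosure A (∀ i, K i))) [Q.IsPrime] :
    IsDomain (Localization.AtPrime Q) := by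
  classical
  have : Nontrivial (Localization.AtPrime Q) := inferInstance
  suffices NoZeroDivisors (Localization.AtPrime Q) from
    (isDomain_iff_noZeroDivisors_and_nontrivial _).2 ⟨this, inferInstance⟩
  refine ⟨fun {a b} h => ?_⟩
  obtain ⟨⟨x, s⟩, rfl⟩ := IsLocalization.mk'_surjective Q.primeCompl a
  obtain ⟨⟨y, t⟩, rfl⟩ := IsLocalization.mk'_surjective Q.primeCompl b
  simp only [Function.uncurry_apply_pair] at h ⊢
  rw [← IsLocalization.mk'_mul, IsLocalization.mk'_eq_zero_iff] at h
  obtain ⟨w, hw⟩ := h
  let z : ∀ i, K i := (w.1 * x).1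
  let e : ∀ i, K i := fun i => if z i = 0 then 0 else 1
  have he : e * e = e := funext fun i => by simp only [e, Pi.mul_apply]; split <;> simp
  have hei : IsIntegral A e := ⟨Polynomial.X * (Polynomial.X - 1),
    Polynomial.monic_X.mul (by simpa using Polynomial.monic_X_sub_C (1 : A)), by
      simp only [Polynomial.eval₂_mul, Polynomial.eval₂_X, Polynomial.eval₂_sub, Polynomial.eval₂_one, mul_sub, he,
        mul_one, sub_self]⟩
  let eN : integralClosure A (∀ i, K i) := ⟨e, hei⟩
  by_cases heQ : eN ∈ Q
  · left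
    rw [IsLocalization.mk'_eq_zero_iff]
    have hne : (1 - eN) ∉ Q := fun h' => Q.primeCompl.one_mem (by simpa using Q.add_mem h' heQ)
    refine ⟨⟨(1 - eN) * w.1, fun h' => (Ideal.IsPrime.mem_or_mem ‹_› h').elim hne w.2⟩, Subtype.ext ?_⟩
    funext i
    change ((1 - e) * w.1.1 * x.1) i = 0
    have hz : z i = w.1.1 i * x.1 i := rfl
    simp only [e, Pi.mul_apply, Pi.sub_apply, Pi.one_apply, mul_assoc, ← hz]
    split <;> simp_all
  · right
    rw [IsLocalization.mk'_eq_zero_iff]
    refine ⟨⟨eN, heQ⟩, Subtype.ext ?_⟩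
    funext i
    change e i * y.1 i = 0
    have hzy : z i * y.1 i = 0 := by
      have := congrFun (congrArg Subtype.val hw) i
      simpa [z, mul_assoc] using this
    simp only [e]
    split
    · exact zero_mul _
    · next hz => rw [(mul_eq_zero.1 hzy).resolve_left hz, mul_zero]

variable [∀ i, IsAlgClosed (K i)]

/-- The local rings of an integral closure in a product of algebraically closed fields have roots. -/
theorem exists_root_localization (Q : Ideal (integralClosure A (∀ i, K i))) [Q.IsPrime]
    (p : Polynomial (Localization.AtPrime Q)) (hp : p.Monic) (hd : 0 < p.natDegree) : ∃ a, p.IsRoot a := by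
  classical
  let N := integralClosure A (∀ i, K i)
  have : Nontrivial N := ⟨⟨0, 1, fun h => Q.primeCompl.one_mem (h ▸ Q.zero_mem)⟩⟩
  obtain ⟨s, hs⟩ := IsLocalization.exist_integer_multiples Q.primeCompl (Finset.range p.natDegree) p.coeff
  choose c hc using hs
  let f : ℕ → N := fun i => if h : i ∈ Finset.range p.natDegree then s.1 ^ (p.natDegree - i - 1) * c i h else 0
  let q : Polynomial N := Polynomial.X ^ p.natDegree + ∑ i ∈ Finset.range p.natDegree, Polynomial.C (f i) * Polynomial.X ^ i
  have hq : q.Monic := Polynomial.monic_X_pow_add (by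
    refine (Polynomial.degree_sum_le _ _).trans_lt ((Finset.sup_lt_iff (WithBot.bot_lt_coe _)).2 fun i hi => ?_)
    exact (Polynomial.degree_C_mul_X_pow_le i _).trans_lt (WithBot.coe_lt_coe.2 (Finset.mem_range.1 hi)))
  have hqd : q.natDegree = p.natDegree := by
    refine Polynomial.natDegree_eq_of_degree_eq_some ?_
    rw [Polynomial.degree_add_eq_left_of_degree_lt] <;> rw [Polynomial.degree_X_pow]
    refine (Polynomial.degree_sum_le _ _).trans_lt ((Finset.sup_lt_iff (WithBot.bot_lt_coe _)).2 fun i hi => ?_)
    exact (Polynomial.degree_C_mul_X_pow_le i _).trans_lt (WithBot.coe_lt_coe.2 (Finset.mem_range.1 hi))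
  have hi : ∀ i, ∃ z : K i, (q.map ((Pi.evalRingHom K i).comp N.val.toRingHom)).IsRoot z := fun i => by
    refine IsAlgClosed.exists_root _ ?_
    rw [hq.degree_map, Polynomial.degree_eq_natDegree hq.ne_zero, hqd]
    exact_mod_cast hd.ne'
  choose z hz using hi
  have hzi : IsIntegral N z := ⟨q, hq, funext fun i => by
    have h := hz i
    rw [Polynomial.IsRoot, Polynomial.eval_map] at h
    change Pi.evalRingHom K i (Polynomial.eval₂ (algebraMap N (∀ i, K i)) z q) = _
    rw [Polynomial.hom_eval₂]
    exact h⟩
  let w : N := ⟨z, isIntegral_trans z hzi⟩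
  have hw : q.eval w = 0 := Subtype.ext (funext fun i => by
    have h := hz i
    rw [Polynomial.IsRoot, Polynomial.eval_map] at h
    change ((Pi.evalRingHom K i).comp N.val.toRingHom) (q.eval₂ (RingHom.id N) w) = _
    rw [Polynomial.hom_eval₂, RingHom.comp_id]
    exact h)
  let L := Localization.AtPrime Q
  obtain ⟨v, hv⟩ := IsLocalization.map_units L s
  refine ⟨algebraMap N L w * (↑v⁻¹ : L), ?_⟩
  have hscale : (v : L) ^ p.natDegree * p.eval (algebraMap N L w * (↑v⁻¹ : L)) = algebraMap N L (q.eval w) := by
    rw [Polynomial.eval_eq_sum_range, Finset.sum_range_succ, hp.coeff_natDegree, one_mul, mul_add, Finset.mul_sum]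
    simp only [q, Polynomial.eval_add, Polynomial.eval_pow, Polynomial.eval_X, Polynomial.eval_finsetSum,
      Polynomial.eval_mul, Polynomial.eval_C, map_add, map_pow, map_sum, map_mul]
    rw [add_comm]
    congr 1
    · rw [← mul_pow, mul_left_comm, Units.mul_inv, mul_one]
    · refine Finset.sum_congr rfl fun i hi => ?_
      have hc' : algebraMap N L (c i hi) = (v : L) * p.coeff i := by
        rw [hv, ← Algebra.smul_def]; exact hc i hi
      simp only [f, dif_pos hi, map_mul, map_pow]
      rw [← hv, hc']
      obtain ⟨d, hd'⟩ := Nat.exists_eq_add_of_lt (Finset.mem_range.1 hi)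
      rw [hd', show i + d + 1 - i - 1 = d by omega]
      have hvi : (v : L) ^ i * (↑v⁻¹ : L) ^ i = 1 := by rw [← mul_pow, Units.mul_inv, one_pow]
      calc (v : L) ^ (i + d + 1) * (p.coeff i * (algebraMap N L w * (↑v⁻¹ : L)) ^ i)
          = ((v : L) ^ i * (↑v⁻¹ : L) ^ i) * ((v : L) ^ d * ((v : L) * p.coeff i) * algebraMap N L w ^ i) := by ring
        _ = _ := by rw [hvi, one_mul]
  rw [hw, map_zero] at hscale
  exact (IsUnit.pow _ v.isUnit).mul_right_eq_zero.1 hscale

theorem exists_algHom_away_of {A N : Type u} [CommRing A] [CommRing N] [Algebra A N] (C : Type u) [CommRing C]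
    [Algebra A C] [Module.FaithfullyFlat A C] [Algebra.QuasiFinite A C] [Algebra.FinitePresentation A C]
    (Q : Ideal N) [Q.IsPrime] [IsDomain (Localization.AtPrime Q)]
    (hroot : ∀ p : Polynomial (Localization.AtPrime Q), p.Monic → 0 < p.natDegree → ∃ a, p.IsRoot a) :
    ∃ g ∉ Q, Nonempty (C →ₐ[A] Localization.Away g) := by
  let R := Localization.AtPrime Q
  obtain ⟨φ⟩ := exists_algHom_of_roots (R := R) (T := R ⊗[A] C) hroot
  let g : C →ₐ[A] R := (φ.restrictScalars A).comp Algebra.TensorProduct.includeRight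
  let gN : N ⊗[A] C →ₐ[N] R := Algebra.TensorProduct.lift (Algebra.ofId N R) g fun _ _ => Commute.all _ _
  obtain ⟨s, hs, u, -, -⟩ := Groth.Agent.IndEt.exists_stage_localization Q.primeCompl (N ⊗[A] C) gN
  exact ⟨s, hs, ⟨(u.restrictScalars A).comp Algebra.TensorProduct.includeRight⟩⟩

/-- Faithfully flat quasi-finite finitely presented algebras have sections Zariski locally on the closure. -/
theorem exists_algHom_away (C : Type u) [CommRing C] [Algebra A C] [Module.FaithfullyFlat A C]
    [Algebra.QuasiFinite A C] [Algebra.FinitePresentation A C]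
    (Q : Ideal (integralClosure A (∀ i, K i))) [Q.IsPrime] :
    ∃ g ∉ Q, Nonempty (C →ₐ[A] Localization.Away (g : integralClosure A (∀ i, K i))) :=
  have := isDomain_localization Q
  exists_algHom_away_of C Q (exists_root_localization Q)

end Groth.Agent.AbsClosure
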