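import Groth.Agent.AbsClosure.Ring
import Groth.Agent.QFFlatSlice.Basic
import Groth.Agent.GenFlat.FppfSource
import Mathlib.AlgebraicGeometry.Normalization
import Mathlib.AlgebraicGeometry.ResidueField
import Mathlib.RingTheory.Localization.Integral
import Mathlib.FieldTheory.IsAlgClosed.AlgebraicClosure

/-!
# The pointwise absolute integral closure of a scheme

For every scheme the integral closures of `Γ(U)` in the products of algebraic closures of all residue
fields glue to a surjective integral morphism, which dominates every fppf cover Zariski locally.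
-/

set_option autoImplicit false
set_option backward.isDefEq.respectTransparency false

universe u

open CategoryTheory Limits AlgebraicGeometry Opposite

noncomputable section

namespace Groth.Agent.AbsClosure

variable (S : Scheme.{u})

/-- Functions to algebraic closures of residue fields. -/
abbrev Val (U : S.Opens) : Type u := ∀ y : U, AlgebraicClosure (S.residueField y.1)

instance evalAlgebra (U : S.Opens) (y : U) : Algebra Γ(S, U) (AlgebraicClosure (S.residueField y.1)) :=
  ((algebraMap (S.residueField y.1) (AlgebraicClosure (S.residueField y.1))).comp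
    (S.evaluation U y.1 y.2).hom).toAlgebra

/-- The value ring on an open. -/
abbrev closureRing (U : S.Opens) : Subalgebra Γ(S, U) (Val S U) := integralClosure Γ(S, U) (Val S U)

noncomputable local instance (U : S.Opens) : CommRing (closureRing S U) := Subalgebra.toCommRing _

/-- Restriction of functions. -/
def resVal {U V : S.Opens} (h : V ≤ U) : Val S U →+* Val S V :=
  Pi.ringHom fun y => Pi.evalRingHom (fun z : U => AlgebraicClosure (S.residueField z.1)) ⟨y.1, h y.2⟩

theorem resVal_apply {U V : S.Opens} (h : V ≤ U) (z : Val S U) (y : V) : resVal S h z y = z ⟨y.1, h y.2⟩ := rfl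

theorem algebraMap_val_apply (U : S.Opens) (r : Γ(S, U)) (y : U) :
    algebraMap Γ(S, U) (Val S U) r y =
      algebraMap (S.residueField y.1) (AlgebraicClosure (S.residueField y.1)) (S.evaluation U y.1 y.2 r) := rfl

theorem resVal_comp_algebraMap {U V : S.Opens} (h : V ≤ U) :
    (algebraMap Γ(S, V) (Val S V)).comp (S.presheaf.map (homOfLE h).op).hom =
      (resVal S h).comp (algebraMap Γ(S, U) (Val S U)) := by
  ext r y
  simp only [RingHom.comp_apply, resVal_apply, algebraMap_val_apply]
  congr 1
  exact congrArg (S.residue y.1) (S.presheaf.germ_res_apply (homOfLE h) y.1 y.2 r)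

/-- The presheaf of integral closures. -/
def diagram : S.Opensᵒᵖ ⥤ CommRingCat.{u} where
  obj U := .of (closureRing S U.unop)
  map {U V} i := CommRingCat.ofHom ((resVal S i.unop.le).restrict _ _ fun x hx =>
    IsIntegral.map_of_comp_eq (S.presheaf.map (homOfLE i.unop.le).op).hom (resVal S i.unop.le)
      (resVal_comp_algebraMap S i.unop.le) hx)
  map_id U := rfl
  map_comp i j := rfl

/-- The structure map of the diagram. -/
def diagramMap : S.presheaf ⟶ diagram S where
  app U := CommRingCat.ofHom (algebraMap Γ(S, U.unop) (closureRing S U.unop))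
  naturality {U V} i := by
    ext r
    exact Subtype.ext (DFunLike.congr_fun (resVal_comp_algebraMap S i.unop.le) r)

open Scheme.AffineZariskiSite in
theorem coequifibered_diagramMap : ((toOpensFunctor S).op.whiskerLeft (diagramMap S)).Coequifibered := by
  classical
  refine coequifibered_iff_forall_isLocalizationAway.mpr fun U r ↦ ?_
  let V := S.basicOpen r
  let φ := (diagram S).map (homOfLE (S.basicOpen_le r)).op
  let : Algebra (closureRing S U.1) (closureRing S V) := φ.hom.toAlgebra
  have hVU : V ≤ U.1 := S.basicOpen_le r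
  change IsLocalization.Away (algebraMap Γ(S, U.1) (closureRing S U.1) r) (closureRing S V)
  have hnat : ∀ a, algebraMap (closureRing S U.1) (closureRing S V) (algebraMap Γ(S, U.1) (closureRing S U.1) a) =
      algebraMap Γ(S, V) (closureRing S V) (S.presheaf.map (homOfLE hVU).op a) := fun a =>
    (ConcreteCategory.congr_hom ((diagramMap S).naturality (homOfLE hVU).op) a).symm
  refine IsLocalization.Away.mk _ ?_ (fun z => ?_) fun a b hab => ⟨1, ?_⟩
  · rw [hnat]
    exact (S.toRingedSpace.isUnit_res_basicOpen r).map (algebraMap Γ(S, V) (closureRing S V))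
  · let : Algebra Γ(S, U.1) Γ(S, V) := (S.presheaf.map (homOfLE hVU).op).hom.toAlgebra
    let : Algebra Γ(S, U.1) (Val S V) := ((algebraMap Γ(S, V) (Val S V)).comp
      (algebraMap Γ(S, U.1) Γ(S, V))).toAlgebra
    have : IsScalarTower Γ(S, U.1) Γ(S, V) (Val S V) := IsScalarTower.of_algebraMap_eq fun _ => rfl
    have : IsLocalization.Away r Γ(S, V) := U.2.isLocalization_basicOpen r
    obtain ⟨⟨_, m, rfl⟩, p, hp, hpz⟩ := IsIntegral.exists_multiple_integral_of_isLocalization
      (M := Submonoid.powers r) (Rₘ := Γ(S, V)) z.1 z.2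
    let zm : Val S V := algebraMap Γ(S, U.1) (Val S V) (r ^ m) * z.1
    have hzm : Polynomial.eval₂ (algebraMap Γ(S, U.1) (Val S V)) zm p = 0 := by
      rw [show zm = r ^ m • z.1 from (Algebra.smul_def _ _).symm]
      exact hpz
    let w : Val S U.1 := fun y => if hy : y.1 ∈ V then zm ⟨y.1, hy⟩ else 0
    have hw : IsIntegral Γ(S, U.1) w := ⟨Polynomial.X * p, Polynomial.monic_X.mul hp, funext fun y => by
      change Pi.evalRingHom _ y (Polynomial.eval₂ (algebraMap Γ(S, U.1) (Val S U.1)) w (Polynomial.X * p)) = 0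
      rw [Polynomial.eval₂_mul, Polynomial.eval₂_X, map_mul, Polynomial.hom_eval₂]
      by_cases hy : y.1 ∈ V
      · have h := congrFun hzm ⟨y.1, hy⟩
        change Pi.evalRingHom _ (⟨y.1, hy⟩ : V) (Polynomial.eval₂ _ zm p) = 0 at h
        rw [Polynomial.hom_eval₂] at h
        refine mul_eq_zero_of_right _ ?_
        refine Eq.trans ?_ h
        congr 1
        · ext a
          exact (congrFun (DFunLike.congr_fun (resVal_comp_algebraMap S hVU) a) ⟨y.1, hy⟩).symm
        · simp [w, hy]
      · exact mul_eq_zero_of_left (by simp [w, hy]) _⟩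
    refine ⟨m, ⟨w, hw⟩, Subtype.ext ?_⟩
    rw [← map_pow, ← map_pow, hnat]
    funext y
    change z.1 y * algebraMap Γ(S, V) (Val S V) (S.presheaf.map (homOfLE hVU).op (r ^ m)) y = w ⟨y.1, hVU y.2⟩
    simp only [w, dif_pos y.2, zm, Pi.mul_apply]
    exact mul_comm _ _
  · refine Subtype.ext (funext fun y => ?_)
    change (algebraMap Γ(S, U.1) (Val S U.1) r ^ 1 * a.1) y = (algebraMap Γ(S, U.1) (Val S U.1) r ^ 1 * b.1) y
    rw [pow_one, Pi.mul_apply, Pi.mul_apply, algebraMap_val_apply]
    by_cases hy : y.1 ∈ V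
    · have := congrFun (congrArg Subtype.val hab) ⟨y.1, hy⟩
      change a.1 y = b.1 y at this
      rw [this]
    · rw [(S.evaluation_eq_zero_iff_notMem_basicOpen y.1 y.2 r).2 hy, map_zero, zero_mul, zero_mul]

/-- The gluing data. -/
def glueData := Scheme.AffineZariskiSite.relativeGluingData (coequifibered_diagramMap S)

instance : ((glueData S).functor ⋙ Scheme.forget).IsLocallyDirected :=
  Scheme.Cover.RelativeGluingData.instIsLocallyDirectedI₀CompFunctorForgetOfIsThin ..

/-- The pointwise absolute integral closure. -/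
def absClosure : Scheme.{u} := (glueData S).glued

/-- Its structure map. -/
def fromAbsClosure : absClosure S ⟶ S := (glueData S).toBase

/-- Its charts. -/
def chart (U : S.affineOpens) : Spec (.of (closureRing S U.1)) ⟶ absClosure S := (glueData S).cover.f U

instance (U : S.affineOpens) : IsOpenImmersion (chart S U) := (glueData S).cover.map_prop U

theorem chart_fromAbsClosure (U : S.affineOpens) :
    chart S U ≫ fromAbsClosure S =
      Spec.map (CommRingCat.ofHom (algebraMap Γ(S, U.1) (closureRing S U.1))) ≫ U.2.fromSpec :=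
  colimit.ι_desc _ _

theorem preimage_fromAbsClosure (U : S.affineOpens) :
    fromAbsClosure S ⁻¹ᵁ U.1 = (chart S U).opensRange := by
  have h := (glueData S).toBase_preimage_eq_opensRange_ι U
  simpa using! h

theorem isIntegralHom_fromAbsClosure : IsIntegralHom (fromAbsClosure S) := by
  rw [IsZariskiLocalAtTarget.iff_of_iSup_eq_top (P := @IsIntegralHom) _ (iSup_affineOpens_eq_top _)]
  intro U
  let e := IsOpenImmersion.isoOfRangeEq (fromAbsClosure S ⁻¹ᵁ U).ι (chart S U)
      (by simpa using congr($(preimage_fromAbsClosure S U).1))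
  rw [← MorphismProperty.cancel_left_of_respectsIso @IsIntegralHom e.inv,
    ← MorphismProperty.cancel_right_of_respectsIso @IsIntegralHom _ U.2.isoSpec.hom]
  have : (algebraMap Γ(S, U.1) (closureRing S U.1)).IsIntegral :=
    algebraMap_isIntegral_iff.mpr inferInstance
  convert! (IsIntegralHom.SpecMap_iff (φ := CommRingCat.ofHom (algebraMap Γ(S, U.1) (closureRing S U.1)))).mpr this
  rw [← cancel_mono U.2.fromSpec]
  simp [IsAffineOpen.isoSpec_hom, e, chart_fromAbsClosure]

theorem surjective_fromAbsClosure : Surjective (fromAbsClosure S) := by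
  refine ⟨fun s => ?_⟩
  obtain ⟨_, ⟨U, hU, rfl⟩, hsU, -⟩ := S.isBasis_affineOpens.exists_subset_of_mem_open (Set.mem_univ s) isOpen_univ
  let y : U := ⟨s, hsU⟩
  let ψ : closureRing S U →+* AlgebraicClosure (S.residueField s) :=
    (Pi.evalRingHom (fun z : U => AlgebraicClosure (S.residueField z.1)) y).comp (closureRing S U).val.toRingHom
  let Q : PrimeSpectrum (closureRing S U) := ⟨RingHom.ker ψ, RingHom.ker_isPrime ψ⟩
  refine ⟨chart S ⟨U, hU⟩ Q, ?_⟩
  rw [← Scheme.Hom.comp_apply, chart_fromAbsClosure, Scheme.Hom.comp_apply]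
  have : (Spec.map (CommRingCat.ofHom (algebraMap Γ(S, U) (closureRing S U)))) Q = hU.primeIdealOf y := by
    refine PrimeSpectrum.ext (Ideal.ext fun r => ?_)
    rw [hU.primeIdealOf_eq_map_closedPoint]
    change algebraMap (S.residueField s) (AlgebraicClosure (S.residueField s)) (S.evaluation U s hsU r) = 0 ↔
      S.presheaf.germ U s hsU r ∈ IsLocalRing.maximalIdeal (S.presheaf.stalk s)
    rw [map_eq_zero]
    exact IsLocalRing.residue_eq_zero_iff _
  rw [this]
  exact hU.fromSpec_primeIdealOf y

/-- Every fppf cover has sections Zariski locally on the absolute integral closure. -/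
theorem exists_section {S' : Scheme.{u}} (g : S' ⟶ S) [Flat g] [LocallyOfFinitePresentation g] [Surjective g]
    (t : absClosure S) :
    ∃ (V : (absClosure S).Opens) (r : V.toScheme ⟶ S'), t ∈ V ∧ r ≫ g = V.ι ≫ fromAbsClosure S := by
  obtain ⟨_, ⟨U, hU, rfl⟩, htU, -⟩ :=
    S.isBasis_affineOpens.exists_subset_of_mem_open (Set.mem_univ (fromAbsClosure S t)) isOpen_univ
  obtain ⟨Q, rfl⟩ : t ∈ (chart S ⟨U, hU⟩).opensRange := by rw [← preimage_fromAbsClosure]; exact htU
  -- an affine faithfully flat cover of `U`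
  have : CompactSpace (U : Scheme.{u}) := isCompact_iff_compactSpace.mp hU.isCompact
  have : Surjective (g ∣_ U) := IsZariskiLocalAtTarget.restrict (P := @Surjective) ‹Surjective g› U
  obtain ⟨W, p, hW, hp, hp₂, -, hps⟩ := Groth.Agent.GenFlat.exists_affine_fppf_surjective (g ∣_ U)
  let φ : Spec Γ(W, ⊤) ⟶ Spec Γ(S, U) := W.isoSpec.inv ≫ p ≫ (g ∣_ U) ≫ hU.isoSpec.hom
  obtain ⟨ψ, hψ⟩ := Spec.map_surjective φ
  have h₁ : Flat (Spec.map ψ) := by rw [hψ]; infer_instance
  have h₂ : LocallyOfFinitePresentation (Spec.map ψ) := by rw [hψ]; infer_instance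
  have h₃ : Surjective (Spec.map ψ) := by
    rw [hψ]
    have : Surjective ((p ≫ g ∣_ U) ≫ hU.isoSpec.hom) := inferInstance
    rw [Category.assoc] at this
    infer_instance
  let C := Γ(W, ⊤)
  let : Algebra Γ(S, U) C := ψ.hom.toAlgebra
  have : Algebra.FinitePresentation Γ(S, U) C := (LocallyOfFinitePresentation.SpecMap_iff ψ).1 h₂
  have : Module.FaithfullyFlat Γ(S, U) C := RingHom.FaithfullyFlat.iff_flat_and_comap_surjective.2
    ⟨(HasRingHomProperty.Spec_iff (P := @Flat)).1 h₁, h₃.surj⟩
  obtain ⟨C', _, _, hqf, -, hff, hfp, ⟨κ⟩⟩ := Groth.Agent.QFFlatSlice.exists_qf_faithfullyFlat Γ(S, U) C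
  obtain ⟨a, haQ, ⟨θ⟩⟩ := exists_algHom_away (A := Γ(S, U))
    (K := fun y : U => AlgebraicClosure (S.residueField y.1)) C' Q.asIdeal
  let j : Spec (.of (Localization.Away a)) ⟶ absClosure S :=
    Spec.map (CommRingCat.ofHom (algebraMap (closureRing S U) (Localization.Away a))) ≫ chart S ⟨U, hU⟩
  let σ : Spec (.of (Localization.Away a)) ⟶ S' :=
    Spec.map (CommRingCat.ofHom (θ.comp κ).toRingHom) ≫ W.isoSpec.inv ≫ p ≫ (g ⁻¹ᵁ U).ι
  have : IsOpenImmersion (Spec.map (CommRingCat.ofHom (algebraMap (closureRing S U) (Localization.Away a)))) :=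
    IsOpenImmersion.of_isLocalization a
  have : IsOpenImmersion j := inferInstanceAs (IsOpenImmersion (_ ≫ _))
  have hσ : σ ≫ g = j ≫ fromAbsClosure S := by
    have hφ : W.isoSpec.inv ≫ p ≫ (g ⁻¹ᵁ U).ι ≫ g = Spec.map ψ ≫ hU.fromSpec := by
      rw [hψ]
      simp only [φ, Category.assoc]
      rw [IsAffineOpen.isoSpec_hom_fromSpec, morphismRestrict_ι]
    simp only [σ, j, Category.assoc, chart_fromAbsClosure, hφ]
    rw [← Category.assoc, ← Category.assoc, ← Spec.map_comp, ← Spec.map_comp]
    congr 2
    ext r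
    exact (((θ.comp κ).commutes r).trans
      (IsScalarTower.algebraMap_apply Γ(S, U) (closureRing S U) (Localization.Away a) r))
  refine ⟨j.opensRange, j.isoOpensRange.inv ≫ σ, ?_, ?_⟩
  · obtain ⟨q, hq⟩ : Q ∈ Set.range (PrimeSpectrum.comap (algebraMap (closureRing S U) (Localization.Away a))) := by
      rw [PrimeSpectrum.localization_away_comap_range (Localization.Away a) a]; exact haQ
    exact ⟨q, congrArg (chart S ⟨U, hU⟩) hq⟩
  · rw [Category.assoc, hσ, Scheme.Hom.isoOpensRange_inv_comp_assoc]

end Groth.Agent.AbsClosure
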